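import Cfsg.Agent.H510.BF.Skew

/-!
# S5764, StmtBC3: the form over `F`
-/

set_option autoImplicit false

namespace Cfsg.Agent.H510.BF

open Cfsg.Agent.H198.FC

universe u v w

section

variable {K : Type u} [Field K] {V : Type v} [AddCommGroup V] [Module K V]

/-- the symmetry of the form: `b(w,v) = s τ(b(v,w))` -/
theorem cl_symm (b : Cl K V) : ∃ s : K, (s = 1 ∨ (s = -1 ∧ ∀ a, b.τ a = a)) ∧ ∀ v w, b.B w v = s * b.τ (b.B v w) := by
  rcases b.typ with ⟨-, h⟩ | ⟨h, h'⟩
  · exact ⟨1, Or.inl rfl, fun v w => by rw [h, one_mul]⟩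
  · refine ⟨-1, Or.inr ⟨rfl, h⟩, fun v w => ?_⟩
    have h1 := h' (v + w)
    rw [b.add_left, b.add_right, b.add_right, h', h', zero_add, add_zero] at h1
    rw [h, neg_one_mul]
    exact eq_neg_of_add_eq_zero_right h1

theorem cl_nondeg (b : Cl K V) {w : V} (h : ∀ v, b.B v w = 0) : w = 0 := by
  apply b.nondeg
  intro v
  obtain ⟨s, -, hs⟩ := cl_symm b
  rw [hs v w, h, map_zero, mul_zero]

theorem cl_zero_right (b : Cl K V) (v : V) : b.B v 0 = 0 := by
  have h := b.add_right v 0 0
  rw [add_zero] at h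
  exact left_eq_add.1 h

theorem cl_neg_right (b : Cl K V) (v w : V) : b.B v (-w) = -b.B v w := by
  have h := b.add_right v w (-w)
  rw [add_neg_cancel, cl_zero_right] at h
  exact (neg_eq_of_add_eq_zero_right h.symm).symm

variable {F : Type w} [Field F] [Algebra K F] [Module F V] [IsScalarTower K F V]

omit [Algebra K F] [IsScalarTower K F V] in
theorem ad_unique [Nontrivial V] (b : Cl K V) {β β' : F} (h : ∀ v w, b.B v (β • w) = b.B v (β' • w)) : β = β' := by
  obtain ⟨w, hw⟩ := exists_ne (0 : V)
  have h1 : β • w - β' • w = 0 := by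
    apply cl_nondeg b
    intro v
    rw [sub_eq_add_neg, b.add_right, cl_neg_right, h, add_neg_cancel]
  rw [← sub_smul] at h1
  rcases smul_eq_zero.1 h1 with h2 | h2
  · exact sub_eq_zero.1 h2
  · exact absurd h2 hw

/-- the adjoint on `F` -/
theorem exists_nu [Nontrivial V] (b : Cl K V)
    (hadj : ∀ α : F, ∃ β : F, ∀ v w, b.B (α • v) w = b.B v (β • w)) :
    ∃ ν : F ≃+* F, (∀ a, ν (ν a) = a) ∧ (∀ a : K, ν (algebraMap K F a) = algebraMap K F (b.τ a)) ∧
      ∀ (α : F) v w, b.B (α • v) w = b.B v (ν α • w) := by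
  choose β hβ using hadj
  have hinv : ∀ a, β (β a) = a := by
    intro a
    apply ad_unique b
    intro v w
    rw [← hβ]
    obtain ⟨s, hs1, hs⟩ := cl_symm b
    have h1 : b.B (β a • v) w = s * b.τ (b.B w (β a • v)) := hs _ _
    rw [h1, ← hβ, ← hs]
  have hadd : ∀ a a', β (a + a') = β a + β a' := by
    intro a a'
    apply ad_unique b
    intro v w
    rw [← hβ, add_smul, add_smul, b.add_left, b.add_right, hβ, hβ]
  have hmul : ∀ a a', β (a * a') = β a * β a' := by
    intro a a'
    apply ad_unique b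
    intro v w
    rw [← hβ, mul_smul, hβ, hβ, ← mul_smul, mul_comm]
  refine ⟨{ toFun := β, invFun := β, left_inv := hinv, right_inv := hinv, map_mul' := hmul, map_add' := hadd },
    hinv, fun a => ?_, hβ⟩
  change β (algebraMap K F a) = _
  apply ad_unique b
  intro v w
  rw [← hβ, algebraMap_smul, algebraMap_smul, b.smul_left, b.smul_right, b.invol]

variable [Finite K] [Finite F]

theorem trace_nu (b : Cl K V) (ν : F ≃+* F) (hν : ∀ a : K, ν (algebraMap K F a) = algebraMap K F (b.τ a)) (x : F) :
    Algebra.trace K F (ν x) = b.τ (Algebra.trace K F x) := by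
  have h := Algebra.trace_eq_of_equiv_equiv b.τ ν (RingHom.ext fun a => (hν a).symm) x
  rw [h, RingEquiv.apply_symm_apply]

theorem trace_ext {x y : F} (h : ∀ α, Algebra.trace K F (α * x) = Algebra.trace K F (α * y)) : x = y := by
  have hnd := traceForm_nondegenerate K F
  rw [← sub_eq_zero]
  apply hnd.1
  intro α
  rw [Algebra.traceForm_apply, mul_comm, mul_sub, map_sub, h, sub_self]

/-- **the form over `F`** -/
theorem exists_form [Nontrivial V] (b : Cl K V)
    (hadj : ∀ α : F, ∃ β : F, ∀ v w, b.B (α • v) w = b.B v (β • w)) :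
    ∃ (ν : F ≃+* F) (B : V → V → F) (c : K), SkData K F b ν B c := by
  obtain ⟨ν, hinv, hext, hν⟩ := exists_nu b hadj
  obtain ⟨s, hs1, hs⟩ := cl_symm b
  have hnd := traceForm_nondegenerate K F
  -- the functional
  let fn : V → V → (F →ₗ[K] K) := fun v w =>
    { toFun := fun α => b.B (α • v) w
      map_add' := fun α β => by rw [add_smul, b.add_left]
      map_smul' := fun a α => by rw [smul_assoc, b.smul_left]; rfl }
  have hex : ∀ v w, ∃ x : F, ∀ α : F, b.B (α • v) w = Algebra.trace K F (α * x) := by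
    intro v w
    refine ⟨((Algebra.traceForm K F).toDual hnd).symm (fn v w), fun α => ?_⟩
    have h1 := LinearMap.BilinForm.apply_toDual_symm_apply (hB := hnd) (fn v w) α
    rw [Algebra.traceForm_apply, mul_comm] at h1
    exact h1.symm
  choose B0 hB0 using hex
  have hb : ∀ v w, b.B v w = Algebra.trace K F (B0 v w) := by
    intro v w
    have h := hB0 v w 1
    rwa [one_smul, one_mul] at h
  have p1 : ∀ v v' w, B0 (v + v') w = B0 v w + B0 v' w := by
    intro v v' w
    apply trace_ext (K := K)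
    intro α
    rw [← hB0, smul_add, b.add_left, hB0, hB0, mul_add, map_add]
  have p2 : ∀ v w w', B0 v (w + w') = B0 v w + B0 v w' := by
    intro v w w'
    apply trace_ext (K := K)
    intro α
    rw [← hB0, b.add_right, hB0, hB0, mul_add, map_add]
  have p3 : ∀ (a : F) v w, B0 (a • v) w = a * B0 v w := by
    intro a v w
    apply trace_ext (K := K)
    intro α
    rw [← hB0, ← mul_smul, hB0, mul_assoc]
  have p4 : ∀ (a : F) v w, B0 v (a • w) = ν a * B0 v w := by
    intro a v w
    apply trace_ext (K := K)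
    intro α
    have h1 : b.B (α • v) (a • w) = b.B (ν a • (α • v)) w := by rw [hν (ν a), hinv]
    rw [← hB0, h1, ← mul_smul, hB0]
    congr 1
    ring
  have p5 : ∀ v w, B0 w v = algebraMap K F s * ν (B0 v w) := by
    intro v w
    apply trace_ext (K := K)
    intro α
    have h1 : b.B v (α • w) = b.B (ν α • v) w := by rw [hν (ν α), hinv]
    rw [← hB0, hs v (α • w), h1, hB0, ← trace_nu b ν hext, map_mul, hinv, mul_left_comm, ← Algebra.smul_def,
      LinearMap.map_smul, smul_eq_mul]
  have halt0 : (∀ a, ν a = a) → ∀ v, B0 v v = 0 := by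
    intro hid v
    have hτ : ∀ a, b.τ a = a := by
      intro a
      have h1 := hext a
      rw [hid] at h1
      exact ((algebraMap K F).injective h1).symm
    have hsp : ∀ v, b.B v v = 0 := by
      rcases b.typ with ⟨⟨a, ha⟩, -⟩ | ⟨-, h⟩
      · exact absurd (hτ a) ha
      · exact h
    apply trace_ext (K := K)
    intro α
    rw [mul_zero, map_zero, ← hB0]
    by_cases h2 : ringChar F = 2
    · obtain ⟨β, rfl⟩ := FiniteField.isSquare_of_char_two h2 α
      rw [mul_smul, hν, hid, hsp]
    · have h3 : b.B (α • v) v + b.B v (α • v) = 0 := by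
        have h4 := hsp (α • v + v)
        rw [b.add_left, b.add_right, b.add_right, hsp, hsp, zero_add, add_zero] at h4
        exact h4
      have h5 : b.B v (α • v) = b.B (α • v) v := by rw [hν α, hid]
      rw [h5, ← two_mul] at h3
      have h6 : (2 : K) ≠ 0 := by
        intro h7
        apply Ring.two_ne_zero h2
        have h8 := congrArg (algebraMap K F) h7
        rwa [map_ofNat, map_zero] at h8
      exact (mul_eq_zero.1 h3).resolve_left h6
  -- scaling
  obtain ⟨δ, hδ0, hδ⟩ : ∃ δ : K, δ ≠ 0 ∧ s * δ = -b.τ δ := by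
    rcases b.typ with ⟨⟨a, ha⟩, h⟩ | ⟨h, h'⟩
    · have hs1' : s = 1 := by
        rcases hs1 with h1 | ⟨-, h2⟩
        · exact h1
        · exact absurd (h2 a) ha
      refine ⟨a - b.τ a, sub_ne_zero.2 (Ne.symm ha), ?_⟩
      rw [hs1', one_mul, map_sub, b.invol]
      ring
    · refine ⟨1, one_ne_zero, ?_⟩
      rw [map_one, mul_one]
      rcases hs1 with h1 | ⟨h1, -⟩
      · -- `s = 1` and alternating: characteristic two
        obtain ⟨v, hv⟩ := exists_ne (0 : V)
        obtain ⟨w, hw⟩ : ∃ w, b.B v w ≠ 0 := by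
          by_contra hcon
          push Not at hcon
          exact hv (b.nondeg v hcon)
        have h3 := hs v w
        have h4 : b.B v w + b.B w v = 0 := by
          have h4 := h' (v + w)
          rw [b.add_left, b.add_right, b.add_right, h', h', zero_add, add_zero] at h4
          exact h4
        rw [h3, h, h1, one_mul, ← two_mul] at h4
        have h5 := (mul_eq_zero.1 h4).resolve_right hw
        have h6 : (1 : K) + 1 = 0 := by rw [one_add_one_eq_two, h5]
        rw [h1]
        exact eq_neg_of_add_eq_zero_left h6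
      · exact h1
  refine ⟨ν, fun v w => algebraMap K F δ * B0 v w, δ⁻¹, ⟨hinv, hext, ?_, ?_, ?_, ?_, ?_, ?_, ?_, inv_ne_zero hδ0, ?_⟩⟩
  · intro v v' w; rw [p1, mul_add]
  · intro v w w'; rw [p2, mul_add]
  · intro a v w; rw [p3, mul_left_comm]
  · intro a v w; rw [p4, mul_left_comm]
  · intro v w
    rw [p5, map_mul, hext, ← mul_assoc, ← map_mul, mul_comm δ s, hδ, map_neg, neg_mul]
  · intro v hv
    apply b.nondeg
    intro w
    have h1 : B0 v w = 0 := by
      have h2 := hv w
      rcases mul_eq_zero.1 h2 with h3 | h3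
      · exact absurd ((map_eq_zero _).1 h3) hδ0
      · exact h3
    rw [hb, h1, map_zero]
  · intro hid v
    rw [halt0 hid, mul_zero]
  · intro v w
    rw [hb, ← Algebra.smul_def, LinearMap.map_smul, smul_eq_mul, ← mul_assoc, inv_mul_cancel₀ hδ0, one_mul]

/-- an involution of `F`, `|F| = |K|²`, is trivial or `a ↦ a^|K|` -/
theorem invol_two (ν : F ≃+* F) (hinv : ∀ a, ν (ν a) = a) (h2 : Module.finrank K F = 2) :
    (∀ a, ν a = a) ∨ ∀ a, ν a = fr K F 1 a := by
  classical
  letI := Fintype.ofFinite K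
  letI := Fintype.ofFinite F
  obtain ⟨p, hp⟩ := CharP.exists F
  haveI : Fact p.Prime := ⟨CharP.char_is_prime F p⟩
  letI : Algebra (ZMod p) F := ZMod.algebra F p
  set n := Module.finrank (ZMod p) F with hn
  have hbij := FiniteField.bijective_frobeniusAlgHom_pow (ZMod p) F
  have hpow : ∀ (k : ℕ) (a : F), (FiniteField.frobeniusAlgHom (ZMod p) F ^ k) a = a ^ p ^ k := by
    intro k a
    rw [AlgHom.coe_pow, FiniteField.coe_frobeniusAlgHom, pow_iterate, ZMod.card]
  let νA : F →ₐ[ZMod p] F :=
    { (ν : F →+* F) with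
      commutes' := fun r => RingHom.congr_fun (RingHom.ext_zmod ((ν : F →+* F).comp (algebraMap (ZMod p) F))
        (algebraMap (ZMod p) F)) r }
  obtain ⟨j, hj⟩ := hbij.2 νA
  have hj' : ∀ a, ν a = a ^ p ^ j.1 := by
    intro a
    rw [← hpow]
    exact (DFunLike.congr_fun hj a).symm
  have hcard : Fintype.card F = p ^ n := by
    rw [Module.card_eq_pow_finrank (K := ZMod p) (V := F), ZMod.card]
  have hj2 : ∀ a : F, a ^ p ^ (2 * j.1) = a := by
    intro a
    have h := hinv a
    rw [hj' a, hj', ← pow_mul, ← pow_add] at h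
    rwa [two_mul]
  have hlt : j.1 < n := j.2
  have hn0 : 0 < n := by omega
  by_cases hle : 2 * j.1 < n
  · left
    have h3 := hbij.1 (a₁ := ⟨2 * j.1, hle⟩) (a₂ := ⟨0, hn0⟩) (by
      apply AlgHom.ext
      intro a
      change (FiniteField.frobeniusAlgHom (ZMod p) F ^ (2 * j.1)) a = (FiniteField.frobeniusAlgHom (ZMod p) F ^ 0) a
      rw [hpow, hpow, hj2, pow_zero, pow_one])
    have h4 := congrArg Fin.val h3
    simp only at h4
    intro a
    have h5 : j.1 = 0 := by omega
    rw [hj', h5, pow_zero, pow_one]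
  · right
    have h5 : ∀ a : F, a ^ p ^ (2 * j.1 - n) = a := by
      intro a
      have h6 := hj2 a
      have h7 : 2 * j.1 = n + (2 * j.1 - n) := by omega
      rw [h7, pow_add, pow_mul, ← hcard, FiniteField.pow_card] at h6
      exact h6
    have h3 := hbij.1 (a₁ := ⟨2 * j.1 - n, by omega⟩) (a₂ := ⟨0, hn0⟩) (by
      apply AlgHom.ext
      intro a
      change (FiniteField.frobeniusAlgHom (ZMod p) F ^ (2 * j.1 - n)) a = (FiniteField.frobeniusAlgHom (ZMod p) F ^ 0) a
      rw [hpow, hpow, h5, pow_zero, pow_one])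
    have h4 := congrArg Fin.val h3
    simp only at h4
    have h6 : n = 2 * j.1 := by omega
    have h7 : Fintype.card K ^ 2 = (p ^ j.1) ^ 2 := by
      rw [← pow_mul, mul_comm j.1 2, ← h6, ← hcard, Module.card_eq_pow_finrank (K := K) (V := F), h2]
    have h8 : Fintype.card K = p ^ j.1 := Nat.pow_left_injective (by norm_num) h7
    intro a
    rw [hj', fr_apply, Nat.card_eq_fintype_card, h8, pow_one]

/-- the fixed points of `a ↦ a^|K|` -/
theorem mem_of_fix {t : F} (ht : fr K F 1 t = t) : ∃ k : K, algebraMap K F k = t := by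
  letI := Fintype.ofFinite K
  letI := Fintype.ofFinite F
  have h1 : t ∈ (⊥ : IntermediateField K F) := by
    rw [IsGalois.mem_bot_iff_fixed]
    intro f
    obtain ⟨n, hn⟩ := (FiniteField.bijective_frobeniusAlgEquivOfAlgebraic_pow K F).2 f
    rw [← hn]
    simp only
    generalize (n : ℕ) = k
    have h2 : ∀ k : ℕ, (FiniteField.frobeniusAlgEquivOfAlgebraic K F ^ k) t = t := by
      intro k
      induction k with
      | zero => rw [pow_zero]; rfl
      | succ k ih =>
        rw [pow_succ, AlgEquiv.mul_apply]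
        have h3 : (FiniteField.frobeniusAlgEquivOfAlgebraic K F) t = t := by
          rw [fr, pow_one] at ht
          exact ht
        rw [h3, ih]
    exact h2 k
  exact IntermediateField.mem_bot.1 h1

/-- a generator of the multiplicative group -/
theorem exists_gen : ∃ γ : F, ∀ a : F, a ≠ 0 → ∃ k : ℕ, a = γ ^ k := by
  obtain ⟨g, hg⟩ := IsCyclic.exists_monoid_generator (α := Fˣ)
  refine ⟨g, fun a ha => ?_⟩
  obtain ⟨k, hk⟩ := hg (Units.mk0 a ha)
  refine ⟨k, ?_⟩
  have h := congrArg Units.val hk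
  simpa using h.symm

end

end Cfsg.Agent.H510.BF
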