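import Mathlib

/-!
# S5764, StmtBC3: the four elements in the standard model and their rigidity
-/

set_option autoImplicit false

namespace Cfsg.Agent.H510.BF

universe w

section

variable {F : Type w} [Field F] {m ε : ℕ}

variable (F m ε) in
/-- the model -/
abbrev W := (Fin m → F) × (Fin m → F) × (Fin ε → F)

/-- the four embeddings -/
def i1 : (Fin m → F) →ₗ[F] W F m ε where
  toFun x := (x, 0, 0)
  map_add' x y := by ext <;> simp
  map_smul' a x := by ext <;> simp

def i2 : (Fin m → F) →ₗ[F] W F m ε where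
  toFun x := (0, x, 0)
  map_add' x y := by ext <;> simp
  map_smul' a x := by ext <;> simp

def i3 : (Fin m → F) →ₗ[F] W F m ε where
  toFun x := (x, x, 0)
  map_add' x y := by ext <;> simp
  map_smul' a x := by ext <;> simp

def i4 (i0 : Fin m) (κ : F) : (Fin m → F) →ₗ[F] W F m ε where
  toFun x := (x, Pi.single i0 (κ * x i0), fun _ => x i0)
  map_add' x y := by
    refine Prod.ext rfl (Prod.ext ?_ rfl)
    change (Pi.single i0 (κ * (x + y) i0) : Fin m → F) = Pi.single i0 (κ * x i0) + Pi.single i0 (κ * y i0)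
    rw [Pi.add_apply, mul_add, Pi.single_add]
  map_smul' a x := by
    refine Prod.ext rfl (Prod.ext ?_ rfl)
    change (Pi.single i0 (κ * (a • x) i0) : Fin m → F) = a • Pi.single i0 (κ * x i0)
    rw [Pi.smul_apply, smul_eq_mul, ← Pi.single_smul, smul_eq_mul, mul_left_comm]

/-- the four coordinate maps -/
def f1 : W F m ε →ₗ[F] (Fin m → F) where
  toFun v := -v.2.1
  map_add' x y := by ext; simp [add_comm]
  map_smul' a x := by ext; simp

def f2 : W F m ε →ₗ[F] (Fin m → F) where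
  toFun v := v.1
  map_add' x y := by ext; simp
  map_smul' a x := by ext; simp

def f3 : W F m ε →ₗ[F] (Fin m → F) where
  toFun v := v.1 - v.2.1
  map_add' x y := by ext; simp; ring
  map_smul' a x := by ext; simp; ring

def f4 (i0 : Fin m) (κ' δ : F) : W F m ε →ₗ[F] (Fin m → F) where
  toFun v := -v.2.1 + Pi.single i0 (κ' * v.1 i0 + δ * ∑ i, v.2.2 i)
  map_add' x y := by
    have h1 : (κ' * (x + y).1 i0 + δ * ∑ i, (x + y).2.2 i) =
        (κ' * x.1 i0 + δ * ∑ i, x.2.2 i) + (κ' * y.1 i0 + δ * ∑ i, y.2.2 i) := by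
      have h2 : ∑ i, (x + y).2.2 i = ∑ i, x.2.2 i + ∑ i, y.2.2 i := by
        rw [← Finset.sum_add_distrib]; rfl
      rw [h2]
      change κ' * (x.1 i0 + y.1 i0) + _ = _
      ring
    rw [h1, Pi.single_add]
    change -(x.2.1 + y.2.1) + _ = _
    abel
  map_smul' a x := by
    have h1 : (κ' * (a • x).1 i0 + δ * ∑ i, (a • x).2.2 i) = a • (κ' * x.1 i0 + δ * ∑ i, x.2.2 i) := by
      have h2 : ∑ i, (a • x).2.2 i = a * ∑ i, x.2.2 i := by
        rw [Finset.mul_sum]; rfl
      rw [h2]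
      change κ' * (a * x.1 i0) + _ = a * _
      ring
    rw [h1, Pi.single_smul]
    change -(a • x.2.1) + _ = _
    rw [RingHom.id_apply, smul_add, smul_neg]

/-- path matrix with the entry `g` in the corner -/
def pm (m : ℕ) (g : F) : Matrix (Fin m) (Fin m) F := fun k l =>
  if k = l then (if k.val = 0 then g else 0) else if k.val + 1 = l.val ∨ l.val + 1 = k.val then 1 else 0

/-- the operators -/
def Zop (τ : F ≃+* F) (ι : (Fin m → F) →ₗ[F] W F m ε) (M : Matrix (Fin m) (Fin m) F)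
    (φ : W F m ε →ₗ[F] (Fin m → F)) (w : W F m ε) : W F m ε := ι (M.mulVec fun k => τ (φ w k))

theorem pm_zero {g : F} {i0 : Fin m} (hi0 : i0.val = 0) (a : F) : (pm m g).mulVec (Pi.single i0 a) i0 = g * a := by
  rw [Matrix.mulVec_single]
  change pm m g i0 i0 * a = _
  rw [pm, if_pos rfl, if_pos hi0]

theorem pm_symm (g : F) (k l : Fin m) : pm m g l k = pm m g k l := by
  unfold pm
  by_cases h : k = l
  · rw [h]
  · rw [if_neg h, if_neg (Ne.symm h)]
    congr 1
    exact propext or_comm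

/-- **rigidity** -/
theorem rigid (τ : F ≃+* F) (hε : ε ≤ 1) {i0 : Fin m} (hi0 : i0.val = 0) {κ κ' γ₂ δ γ : F} (hκ : κ ≠ 0)
    (hκ' : κ' ≠ 0) (hγ₂ : γ₂ ≠ 0) (hγ : ∀ a : F, a ≠ 0 → ∃ k : ℕ, a = γ ^ k) (hγ' : γ = κ ∨ γ = γ₂)
    (g : W F m ε → W F m ε) (hadd : ∀ v w, g (v + w) = g v + g w)
    (h1 : ∀ w, g (Zop τ i1 1 f1 w) = Zop τ i1 1 f1 (g w))
    (h2 : ∀ w, g (Zop τ i2 1 f2 w) = Zop τ i2 1 f2 (g w))
    (h3 : ∀ w, g (Zop τ i3 1 f3 w) = Zop τ i3 1 f3 (g w))
    (h4 : ∀ w, g (Zop τ (i4 i0 κ) (pm m γ₂) (f4 i0 κ' δ) w) = Zop τ (i4 i0 κ) (pm m γ₂) (f4 i0 κ' δ) (g w)) :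
    ∃ t : F, τ t = t ∧ ∀ w, g w = t • w := by
  classical
  have g0 : g 0 = 0 := by
    have h := hadd 0 0
    rw [add_zero] at h
    exact left_eq_add.1 h
  have z1 : ∀ x x' a, Zop τ i1 1 f1 ((x, x', a) : W F m ε) = ((fun k => -τ (x' k)), 0, 0) := by
    intro x x' a
    unfold Zop
    rw [Matrix.one_mulVec]
    refine Prod.ext (funext fun k => ?_) rfl
    exact map_neg τ _
  have z2 : ∀ x x' a, Zop τ i2 1 f2 ((x, x', a) : W F m ε) = (0, (fun k => τ (x k)), 0) := by
    intro x x' a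
    unfold Zop
    rw [Matrix.one_mulVec]
    rfl
  have z3 : ∀ x x' a, Zop τ i3 1 f3 ((x, x', a) : W F m ε) = ((fun k => τ (x k - x' k)), (fun k => τ (x k - x' k)), 0) := by
    intro x x' a
    unfold Zop
    rw [Matrix.one_mulVec]
    rfl
  set h : (Fin m → F) → (Fin m → F) := fun x => (g (x, 0, 0)).1 with hh
  set k : (Fin ε → F) → (Fin ε → F) := fun a => (g (0, 0, a)).2.2 with hk
  have gL : ∀ x, g (x, 0, 0) = (h x, 0, 0) := by
    intro x
    have e1 : ((x, 0, 0) : W F m ε) = Zop τ i1 1 f1 (0, (fun k => -τ.symm (x k)), 0) := by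
      rw [z1]
      refine Prod.ext (funext fun k => ?_) rfl
      change x k = -τ (-τ.symm (x k))
      rw [map_neg, neg_neg, RingEquiv.apply_symm_apply]
    have e2 : g (x, 0, 0) = Zop τ i1 1 f1 (g (0, (fun k => -τ.symm (x k)), 0)) := by rw [← h1, ← e1]
    refine Prod.ext rfl ?_
    rw [e2]
    obtain ⟨a, b, c⟩ := g (0, (fun k => -τ.symm (x k)), 0)
    rw [z1]
  have gL' : ∀ x, (g (0, x, 0)).1 = 0 ∧ (g (0, x, 0)).2.2 = 0 := by
    intro x
    have e1 : ((0, x, 0) : W F m ε) = Zop τ i2 1 f2 ((fun k => τ.symm (x k)), 0, 0) := by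
      rw [z2]
      refine Prod.ext rfl (Prod.ext (funext fun k => ?_) rfl)
      change x k = τ (τ.symm (x k))
      rw [RingEquiv.apply_symm_apply]
    have e2 : g (0, x, 0) = Zop τ i2 1 f2 (g ((fun k => τ.symm (x k)), 0, 0)) := by rw [← h2, ← e1]
    rw [e2]
    obtain ⟨a, b, c⟩ := g ((fun k => τ.symm (x k)), 0, 0)
    rw [z2]
    exact ⟨rfl, rfl⟩
  have gD : ∀ x, (g (x, x, 0)).1 = (g (x, x, 0)).2.1 := by
    intro x
    have e1 : ((x, x, 0) : W F m ε) = Zop τ i3 1 f3 ((fun k => τ.symm (x k)), 0, 0) := by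
      rw [z3]
      have e3 : (fun k => τ (τ.symm (x k) - (0 : Fin m → F) k)) = x := by
        funext k
        rw [Pi.zero_apply, sub_zero, RingEquiv.apply_symm_apply]
      rw [e3]
    have e2 : g (x, x, 0) = Zop τ i3 1 f3 (g ((fun k => τ.symm (x k)), 0, 0)) := by rw [← h3, ← e1]
    rw [e2]
    obtain ⟨a, b, c⟩ := g ((fun k => τ.symm (x k)), 0, 0)
    rw [z3]
  have gL2 : ∀ x, g (0, x, 0) = (0, h x, 0) := by
    intro x
    have e1 : ((x, x, 0) : W F m ε) = (x, 0, 0) + (0, x, 0) := by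
      refine Prod.ext ?_ (Prod.ext ?_ ?_)
      · exact (add_zero x).symm
      · exact (zero_add x).symm
      · exact (add_zero _).symm
    have e2 := gD x
    rw [e1, hadd, gL] at e2
    have e3 : h x + (g (0, x, 0)).1 = 0 + (g (0, x, 0)).2.1 := e2
    rw [(gL' x).1, add_zero, zero_add] at e3
    exact Prod.ext (gL' x).1 (Prod.ext e3.symm (gL' x).2)
  have gU : ∀ a, g (0, 0, a) = (0, 0, k a) := by
    intro a
    have e1 := h1 (0, 0, a)
    have e2 := h2 (0, 0, a)
    rw [z1] at e1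
    rw [z2] at e2
    have e3 : (((fun k => -τ ((0 : Fin m → F) k)), 0, 0) : W F m ε) = 0 := by
      refine Prod.ext (funext fun k => ?_) rfl
      change -τ 0 = 0
      rw [map_zero, neg_zero]
    have e4 : ((0, (fun k => τ ((0 : Fin m → F) k)), 0) : W F m ε) = 0 := by
      refine Prod.ext rfl (Prod.ext (funext fun k => ?_) rfl)
      change τ 0 = 0
      rw [map_zero]
    rw [e3, g0] at e1
    rw [e4, g0] at e2
    obtain ⟨⟨p, p', c⟩, hg⟩ : ∃ w, g (0, 0, a) = w := ⟨_, rfl⟩
    rw [hg, z1] at e1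
    rw [hg, z2] at e2
    have e5 : p' = 0 := by
      funext j
      have h5 := congrFun (congrArg Prod.fst e1) j
      change (0 : F) = -τ (p' j) at h5
      have h6 : τ (p' j) = 0 := by rw [← neg_eq_zero, ← h5]
      exact (map_eq_zero τ).1 h6
    have e6 : p = 0 := by
      funext j
      have h5 := congrFun (congrArg (fun w : W F m ε => w.2.1) e2) j
      change (0 : F) = τ (p j) at h5
      exact (map_eq_zero τ).1 h5.symm
    have e7 : k a = c := by rw [hk]; simp only; rw [hg]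
    rw [hg, e5, e6, e7]
  have gen : ∀ x x' a, g (x, x', a) = (h x, h x', k a) := by
    intro x x' a
    have e1 : ((x, x', a) : W F m ε) = (x, 0, 0) + ((0, x', 0) + (0, 0, a)) := by
      refine Prod.ext ?_ (Prod.ext ?_ ?_)
      · change x = x + (0 + 0); rw [add_zero, add_zero]
      · change x' = 0 + (x' + 0); rw [add_zero, zero_add]
      · change a = 0 + (0 + a); rw [zero_add, zero_add]
    rw [e1, hadd, hadd, gL, gL2, gU]
    refine Prod.ext ?_ (Prod.ext ?_ ?_)
    · change h x + (0 + 0) = h x; rw [add_zero, add_zero]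
    · change 0 + (h x' + 0) = h x'; rw [add_zero, zero_add]
    · change 0 + (0 + k a) = k a; rw [zero_add, zero_add]
  have hadd' : ∀ x y, h (x + y) = h x + h y := by
    intro x y
    have e1 : ((x + y, 0, 0) : W F m ε) = (x, 0, 0) + (y, 0, 0) := by
      refine Prod.ext rfl (Prod.ext ?_ ?_)
      · exact (add_zero _).symm
      · exact (add_zero _).symm
    change (g (x + y, 0, 0)).1 = _
    rw [e1, hadd]
    rfl
  have h00 : h 0 = 0 := by
    have h := hadd' 0 0
    rw [add_zero] at h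
    exact left_eq_add.1 h
  have hneg : ∀ x, h (-x) = -h x := by
    intro x
    have h1 := hadd' x (-x)
    rw [add_neg_cancel, h00] at h1
    exact (neg_eq_of_add_eq_zero_right h1.symm).symm
  have k00 : k 0 = 0 := by
    change (g 0).2.2 = 0
    rw [g0]; rfl
  -- `h` commutes with `τ`
  have hτ : ∀ x, h (fun j => τ (x j)) = fun j => τ (h x j) := by
    intro x
    have e1 := h2 (x, 0, 0)
    rw [z2, gen, gen, z2] at e1
    exact congrArg (fun w : W F m ε => w.2.1) e1
  -- the fourth operator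
  have z4 : ∀ w : W F m ε, Zop τ (i4 i0 κ) (pm m γ₂) (f4 i0 κ' δ) w =
      ((pm m γ₂).mulVec (fun j => τ (f4 i0 κ' δ w j)),
        Pi.single i0 (κ * (pm m γ₂).mulVec (fun j => τ (f4 i0 κ' δ w j)) i0),
        fun _ => (pm m γ₂).mulVec (fun j => τ (f4 i0 κ' δ w j)) i0) := fun w => rfl
  have hC : ∀ (x x' : Fin m → F) (a : Fin ε → F), h ((pm m γ₂).mulVec (fun j => τ (f4 i0 κ' δ (x, x', a) j))) =
        (pm m γ₂).mulVec (fun j => τ (f4 i0 κ' δ (h x, h x', k a) j)) ∧
      h (Pi.single i0 (κ * (pm m γ₂).mulVec (fun j => τ (f4 i0 κ' δ (x, x', a) j)) i0)) =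
        Pi.single i0 (κ * h ((pm m γ₂).mulVec (fun j => τ (f4 i0 κ' δ (x, x', a) j))) i0) ∧
      k (fun _ => (pm m γ₂).mulVec (fun j => τ (f4 i0 κ' δ (x, x', a) j)) i0) =
        fun _ => h ((pm m γ₂).mulVec (fun j => τ (f4 i0 κ' δ (x, x', a) j))) i0 := by
    intro x x' a
    have e1 := h4 (x, x', a)
    rw [z4, gen, gen, z4] at e1
    have e2 := congrArg (fun w : W F m ε => w.1) e1
    have e3 := congrArg (fun w : W F m ε => w.2.1) e1
    have e4 := congrArg (fun w : W F m ε => w.2.2) e1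
    simp only at e2 e3 e4
    refine ⟨e2, ?_, ?_⟩
    · rw [e2]; exact e3
    · rw [e2]; exact e4
  have f4t : ∀ t : Fin m → F, f4 i0 κ' δ ((0, -t, 0) : W F m ε) = t := by
    intro t
    change -(-t) + Pi.single i0 (κ' * (0 : F) + δ * ∑ i : Fin ε, (0 : F)) = t
    rw [Finset.sum_const_zero, mul_zero, mul_zero, add_zero, Pi.single_zero, add_zero, neg_neg]
  have f4x : ∀ x : Fin m → F, f4 i0 κ' δ ((x, 0, 0) : W F m ε) = Pi.single i0 (κ' * x i0) := by
    intro x
    change -(0 : Fin m → F) + Pi.single i0 (κ' * x i0 + δ * ∑ i : Fin ε, (0 : F)) = _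
    rw [Finset.sum_const_zero, mul_zero, add_zero, neg_zero, zero_add]
  have hsymm : ∀ s : Fin m → F, (fun j => τ ((fun j => τ.symm (s j)) j)) = s := by
    intro s
    funext j
    exact RingEquiv.apply_symm_apply τ (s j)
  have hM : ∀ s, h ((pm m γ₂).mulVec s) = (pm m γ₂).mulVec (h s) := by
    intro s
    have e1 := (hC 0 (-(fun j => τ.symm (s j))) 0).1
    rw [f4t, hsymm, h00, k00, hneg, f4t, ← hτ, hsymm] at e1
    exact e1
  have hC2 : ∀ s, h (Pi.single i0 (κ * (pm m γ₂).mulVec s i0)) = Pi.single i0 (κ * h ((pm m γ₂).mulVec s) i0) := by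
    intro s
    have e1 := (hC 0 (-(fun j => τ.symm (s j))) 0).2.1
    rw [f4t, hsymm] at e1
    exact e1
  have hC3 : ∀ s, k (fun _ => (pm m γ₂).mulVec s i0) = fun _ => h ((pm m γ₂).mulVec s) i0 := by
    intro s
    have e1 := (hC 0 (-(fun j => τ.symm (s j))) 0).2.2
    rw [f4t, hsymm] at e1
    exact e1
  set θ : F → F := fun a => h (Pi.single i0 a) i0 with hθ
  have hpm : ∀ a : F, (pm m γ₂).mulVec (Pi.single i0 (a / γ₂)) i0 = a := by
    intro a
    rw [pm_zero hi0, mul_div_cancel₀ a hγ₂]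
  have hsin : ∀ a, h (Pi.single i0 a) = Pi.single i0 (θ a) := by
    intro a
    have e1 := hC2 (Pi.single i0 ((a / κ) / γ₂))
    rw [hpm, mul_div_cancel₀ a hκ] at e1
    rw [hθ]
    simp only
    rw [e1, Pi.single_eq_same]
  have θadd : ∀ a b, θ (a + b) = θ a + θ b := by
    intro a b
    change h (Pi.single i0 (a + b)) i0 = _
    rw [Pi.single_add, hadd', Pi.add_apply]
  have θ0 : θ 0 = 0 := by
    have h := θadd 0 0
    rw [add_zero] at h
    exact left_eq_add.1 h
  have sτ : ∀ a : F, (fun j => τ ((Pi.single i0 a : Fin m → F) j)) = Pi.single i0 (τ a) := by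
    intro a
    funext j
    by_cases hj : j = i0
    · rw [hj, Pi.single_eq_same, Pi.single_eq_same]
    · rw [Pi.single_eq_of_ne hj, Pi.single_eq_of_ne hj, map_zero]
  have θτ : ∀ a, θ (τ a) = τ (θ a) := by
    intro a
    have e1 := hτ (Pi.single i0 a)
    rw [sτ, hsin, hsin, sτ] at e1
    have e2 := congrFun e1 i0
    rwa [Pi.single_eq_same, Pi.single_eq_same] at e2
  have hC4 : ∀ x, θ (κ' * x i0) = κ' * h x i0 := by
    intro x
    have e1 := (hC x 0 0).1
    rw [f4x, h00, k00, f4x, sτ, sτ, hM, hsin] at e1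
    have e2 := congrFun e1 i0
    rw [pm_zero hi0, pm_zero hi0] at e2
    have e3 := mul_left_cancel₀ hγ₂ e2
    rw [θτ] at e3
    exact τ.injective e3
  have θκ' : ∀ a, θ (κ' * a) = κ' * θ a := by
    intro a
    have e1 := hC4 (Pi.single i0 a)
    rwa [Pi.single_eq_same] at e1
  have hx0 : ∀ x, h x i0 = θ (x i0) := by
    intro x
    have e1 := hC4 x
    rw [θκ'] at e1
    exact (mul_left_cancel₀ hκ' e1).symm
  have θκ : ∀ a, θ (κ * a) = κ * θ a := by
    intro a
    have e1 := hC2 (Pi.single i0 (a / γ₂))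
    rw [hx0, hpm, hsin] at e1
    have e2 := congrFun e1 i0
    rwa [Pi.single_eq_same, Pi.single_eq_same] at e2
  have θγ₂ : ∀ a, θ (γ₂ * a) = γ₂ * θ a := by
    intro a
    have e1 := congrFun (hM (Pi.single i0 a)) i0
    rw [hx0, pm_zero hi0, hsin, pm_zero hi0] at e1
    exact e1
  have θpm : ∀ i j a, θ (pm m γ₂ i j * a) = pm m γ₂ i j * θ a := by
    intro i j a
    unfold pm
    split_ifs
    · exact θγ₂ a
    · rw [zero_mul, zero_mul, θ0]
    · rw [one_mul, one_mul]
    · rw [zero_mul, zero_mul, θ0]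
  have θsum : ∀ (s : Finset (Fin m)) (x : Fin m → F), θ (∑ j ∈ s, x j) = ∑ j ∈ s, θ (x j) := by
    intro s x
    let θ' : F →+ F := AddMonoidHom.mk' θ θadd
    exact map_sum θ' x s
  have hcoord : ∀ n : ℕ, ∀ (hn : n < m) (x : Fin m → F), h x ⟨n, hn⟩ = θ (x ⟨n, hn⟩) := by
    intro n
    induction n using Nat.strong_induction_on with
    | _ n ih =>
      intro hn x
      rcases Nat.eq_zero_or_pos n with h0 | h0
      · subst h0
        have : (⟨0, hn⟩ : Fin m) = i0 := Fin.ext hi0.symm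
        rw [this]
        exact hx0 x
      · obtain ⟨l, rfl⟩ : ∃ l, n = l + 1 := ⟨n - 1, by omega⟩
        have hl : l < m := by omega
        have e1 := congrFun (hM x) ⟨l, hl⟩
        rw [ih l (by omega) hl] at e1
        have e2 : θ ((pm m γ₂).mulVec x ⟨l, hl⟩) = ∑ j, pm m γ₂ ⟨l, hl⟩ j * θ (x j) := by
          change θ (∑ j, pm m γ₂ ⟨l, hl⟩ j * x j) = _
          rw [θsum]
          exact Finset.sum_congr rfl fun j _ => θpm _ _ _
        have e3 : (pm m γ₂).mulVec (h x) ⟨l, hl⟩ = ∑ j, pm m γ₂ ⟨l, hl⟩ j * h x j := rfl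
        rw [e2, e3] at e1
        have e4 : ∑ j, pm m γ₂ ⟨l, hl⟩ j * (h x j - θ (x j)) = 0 := by
          simp_rw [mul_sub]
          rw [Finset.sum_sub_distrib, ← e1, sub_self]
        rw [Finset.sum_eq_single (⟨l + 1, hn⟩ : Fin m)] at e4
        · have e5 : pm m γ₂ ⟨l, hl⟩ ⟨l + 1, hn⟩ = 1 := by
            unfold pm
            rw [if_neg (by intro h; have := congrArg Fin.val h; simp at this), if_pos (Or.inl rfl)]
          rw [e5, one_mul] at e4
          exact sub_eq_zero.1 e4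
        · intro j _ hj
          by_cases hjl : j.val ≤ l
          · rw [ih j.val (by omega) j.2 x, sub_self, mul_zero]
          · have e5 : pm m γ₂ ⟨l, hl⟩ j = 0 := by
              unfold pm
              have hj' : j.val ≠ l + 1 := fun h => hj (Fin.ext h)
              rw [if_neg (by intro h; have := congrArg Fin.val h; simp at this; omega),
                if_neg (by simp only; omega)]
            rw [e5, zero_mul]
        · intro hcon
          exact absurd (Finset.mem_univ _) hcon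
  have hall : ∀ x, h x = fun j => θ (x j) := fun x => funext fun j => hcoord j.val j.2 x
  have kall : ∀ a, k a = fun j => θ (a j) := by
    intro a
    funext j
    have hj : ∀ i : Fin ε, i = j := fun i => Fin.ext (by have := i.2; have := j.2; omega)
    have ha : a = fun _ => (pm m γ₂).mulVec (Pi.single i0 (a j / γ₂)) i0 := by
      funext i
      rw [hj i, hpm]
    conv_lhs => rw [ha]
    rw [hC3]
    simp only
    rw [hx0, hpm]
  have θγ : ∀ a, θ (γ * a) = γ * θ a := by
    rcases hγ' with h | h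
    · rw [h]; exact θκ
    · rw [h]; exact θγ₂
  have θlin : ∀ a, θ a = θ 1 * a := by
    intro a
    rcases eq_or_ne a 0 with rfl | ha
    · rw [θ0, mul_zero]
    · obtain ⟨n, rfl⟩ := hγ a ha
      clear ha
      induction n with
      | zero => rw [pow_zero, mul_one]
      | succ n ih => rw [pow_succ', θγ, ih]; ring
  refine ⟨θ 1, ?_, ?_⟩
  · rw [← θτ, map_one]
  · rintro ⟨x, x', a⟩
    rw [gen, hall, hall, kall]
    refine Prod.ext (funext fun j => θlin _) (Prod.ext (funext fun j => θlin _) (funext fun j => θlin _))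

end

end Cfsg.Agent.H510.BF
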