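import Cfsg.Agent.H510.BF.Form
import Cfsg.Agent.H510.BF.Rigid
import Cfsg.Agent.H762.FC.Witt
import Cfsg.Agent.H277.FC.SN
import Cfsg.Agent.H786.FC.Parts

/-!
# S5764, StmtBC3 for `s = n / e ≥ 2`
-/

set_option autoImplicit false

namespace Cfsg.Agent.H510.BF

open Cfsg.Agent.H198.FC

universe u v w

section

variable {K : Type u} [Field K] [Finite K] {V : Type v} [AddCommGroup V] [Module K V] [Module.Finite K V]
  {F : Type w} [Field F] [Finite F] [Algebra K F] [Module F V] [IsScalarTower K F V]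

theorem pm_fr {m : ℕ} (ν : F ≃+* F) {g : F} (hg : fr K F 1 (ν g) = g) (k l : Fin m) :
    pm m g l k = fr K F 1 (ν (pm m g k l)) := by
  rw [pm_symm]
  unfold pm
  split_ifs
  · exact hg.symm
  · rw [map_zero, map_zero]
  · rw [map_one, map_one]
  · rw [map_zero, map_zero]

theorem core [Nontrivial V] (b : Cl K V) (he : (Module.finrank K F).Prime)
    (hadj : ∀ α : F, ∃ β : F, ∀ v w, b.B (α • v) w = b.B v (β • w))
    (hs : 2 * Module.finrank K F ≤ Module.finrank K V) (S : Subgroup (Equiv.Perm (R K V))) (hS : S ≤ RB b)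
    (hSE : ∀ f ∈ S, ∀ a : F, ∃ a' : F, f (mu K V a) = mu K V a') : FiveB b S := by
  classical
  obtain ⟨ν, B, c, hB⟩ := exists_form b hadj
  haveI : Module.Finite F V := Module.Finite.of_restrictScalars_finite K F V
  obtain ⟨m, ε, δ, Φ, hε, hδ, hδ1, hG⟩ := Cfsg.Agent.H762.FC.witt ν hB.invol B hB.add_left hB.add_right hB.smul_left
    hB.smul_right hB.skew hB.nondeg hB.alt
  -- `m ≥ 1`
  have hm : 0 < m := by
    have h1 := Module.finrank_mul_finrank K F V
    have h2 : Module.finrank F V = m + (m + ε) := by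
      rw [← Φ.finrank_eq, Module.finrank_prod, Module.finrank_prod, Module.finrank_fin_fun, Module.finrank_fin_fun]
    have h3 : 2 ≤ Module.finrank F V := by
      have h4 : Module.finrank K F * 2 ≤ Module.finrank K F * Module.finrank F V := by
        rw [h1, mul_comm]; exact hs
      exact Nat.le_of_mul_le_mul_left h4 he.pos
    omega
  set i0 : Fin m := ⟨0, hm⟩ with hi0
  obtain ⟨γ, hγ⟩ := exists_gen (F := F)
  have hγ0 : γ ≠ 0 := by
    intro h0
    obtain ⟨t, ht0, ht1⟩ : ∃ t : F, t ≠ 0 ∧ t ≠ 1 := by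
      by_contra hcon
      push Not at hcon
      letI := Fintype.ofFinite F
      letI := Fintype.ofFinite K
      have h1 : Fintype.card F ≤ 2 := by
        rw [← Finset.card_univ]
        refine (Finset.card_le_card (t := {(0 : F), 1}) fun x _ => ?_).trans Finset.card_le_two
        rcases eq_or_ne x 0 with rfl | hx
        · simp
        · rw [hcon x hx]; simp
      rw [Module.card_eq_pow_finrank (K := K) (V := F)] at h1
      have h2 : 2 ≤ Fintype.card K := Fintype.one_lt_card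
      have h3 : 2 ^ 2 ≤ Fintype.card K ^ Module.finrank K F :=
        (Nat.pow_le_pow_left h2 2).trans (Nat.pow_le_pow_right (by omega) he.two_le)
      omega
    obtain ⟨k, hk⟩ := hγ t ht0
    rw [h0] at hk
    rcases Nat.eq_zero_or_pos k with hk0 | hk0
    · rw [hk0, pow_zero] at hk; exact ht1 hk
    · rw [zero_pow (by omega)] at hk; exact ht0 hk
  -- the parameters
  obtain ⟨κ, γ₂, hκ, hγ₂, hκδ, hor, hM⟩ : ∃ κ γ₂ : F, κ ≠ 0 ∧ γ₂ ≠ 0 ∧ κ - ν κ = δ * ∑ _i : Fin ε, (1 : F) ∧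
      (γ = κ ∨ γ = γ₂) ∧ (Module.finrank K F = 2 → fr K F 1 (ν γ₂) = γ₂) := by
    by_cases h1 : Module.finrank K F = 2 ∧ ∀ a, ν a = a
    · have hε0 : ε = 0 := by
        by_contra hne
        obtain ⟨-, a, ha⟩ := hδ1 (by omega)
        exact ha (h1.2 a)
      subst hε0
      refine ⟨γ, 1, hγ0, one_ne_zero, ?_, Or.inl rfl, fun _ => by rw [map_one, map_one]⟩
      rw [h1.2, sub_self, Finset.univ_eq_empty, Finset.sum_empty, mul_zero]
    · have hfr : Module.finrank K F = 2 → fr K F 1 (ν γ) = γ := by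
        intro h2
        rcases invol_two ν hB.invol h2 with h3 | h3
        · exact absurd ⟨h2, h3⟩ h1
        · rw [← h3, hB.invol]
      rcases (by omega : ε = 0 ∨ ε = 1) with h0 | h0
      · subst h0
        refine ⟨1, γ, one_ne_zero, hγ0, ?_, Or.inr rfl, hfr⟩
        rw [map_one, sub_self, Finset.univ_eq_empty, Finset.sum_empty, mul_zero]
      · subst h0
        obtain ⟨hδ0, hne⟩ := hδ1 rfl
        obtain ⟨κ, hκ⟩ := Cfsg.Agent.H762.FC.exists_sub ν hB.invol hne hδ
        refine ⟨κ, γ, ?_, hγ0, ?_, Or.inr rfl, hfr⟩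
        · rintro rfl
          rw [map_zero, sub_zero] at hκ
          exact hδ0 hκ.symm
        · rw [hκ, Fin.sum_univ_one, mul_one]
  have hκ' : ν κ ≠ 0 := (map_ne_zero ν).2 hκ
  -- the elements
  have hone : ∀ k l : Fin m, (1 : Matrix (Fin m) (Fin m) F) l k = fr K F 1 (ν ((1 : Matrix (Fin m) (Fin m) F) k l)) := by
    intro k l
    rw [Matrix.one_apply, Matrix.one_apply]
    by_cases h : k = l
    · rw [if_pos h, if_pos h.symm, map_one, map_one]
    · rw [if_neg h, if_neg (Ne.symm h), map_zero, map_zero]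
  have hw : ∀ v : V, Φ (Φ.symm v) = v := Φ.apply_symm_apply
  have gram : ∀ (ι : (Fin m → F) →ₗ[F] W F m ε) (φ : W F m ε →ₗ[F] (Fin m → F)),
      (∀ w x, B (Φ w) (Φ (ι x)) = ∑ k, φ w k * ν (x k)) →
      ∀ (v : V) (x : Fin m → F), B v ((Φ.toLinearMap ∘ₗ ι) x) = ∑ k, (φ ∘ₗ Φ.symm.toLinearMap) v k * ν (x k) := by
    intro ι φ h v x
    have h1 := h (Φ.symm v) x
    rw [hw] at h1
    exact h1
  have zer : ∀ (ι : (Fin m → F) →ₗ[F] W F m ε) (φ : W F m ε →ₗ[F] (Fin m → F)), (∀ x, φ (ι x) = 0) →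
      ∀ x : Fin m → F, (φ ∘ₗ Φ.symm.toLinearMap) ((Φ.toLinearMap ∘ₗ ι) x) = 0 := by
    intro ι φ h x
    change φ (Φ.symm (Φ (ι x))) = 0
    rw [Φ.symm_apply_apply, h]
  obtain ⟨x1, hd1, hx1, hf1⟩ := exists_elt hB he (gram i1 f1 (by
      rintro ⟨x, x', a⟩ y
      change B (Φ (x, x', a)) (Φ (y, 0, 0)) = ∑ k, (-x') k * ν (y k)
      rw [hG]
      simp only [Pi.zero_apply, map_zero, mul_zero, Finset.sum_const_zero, zero_sub, add_zero, Pi.neg_apply, neg_mul,
        Finset.sum_neg_distrib])) (zer i1 f1 fun x => by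
      change -(0 : Fin m → F) = 0
      rw [neg_zero]) 1 fun _ => hone
  obtain ⟨x2, hd2, hx2, hf2⟩ := exists_elt hB he (gram i2 f2 (by
      rintro ⟨x, x', a⟩ y
      change B (Φ (x, x', a)) (Φ (0, y, 0)) = ∑ k, x k * ν (y k)
      rw [hG]
      simp only [Pi.zero_apply, map_zero, mul_zero, Finset.sum_const_zero, sub_zero, add_zero])) (zer i2 f2 fun x => rfl)
      1 fun _ => hone
  obtain ⟨x3, hd3, hx3, hf3⟩ := exists_elt hB he (gram i3 f3 (by
      rintro ⟨x, x', a⟩ y
      change B (Φ (x, x', a)) (Φ (y, y, 0)) = ∑ k, (x - x') k * ν (y k)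
      rw [hG]
      simp only [Pi.zero_apply, map_zero, mul_zero, Finset.sum_const_zero, add_zero, Pi.sub_apply, sub_mul,
        Finset.sum_sub_distrib])) (zer i3 f3 fun x => by
      change x - x = 0
      rw [sub_self]) 1 fun _ => hone
  obtain ⟨x4, hd4, hx4, hf4⟩ := exists_elt hB he (gram (i4 i0 κ) (f4 i0 (ν κ) δ) (by
      rintro ⟨x, x', a⟩ y
      change B (Φ (x, x', a)) (Φ (y, Pi.single i0 (κ * y i0), fun _ => y i0)) =
        ∑ k, (-x' + Pi.single i0 (ν κ * x i0 + δ * ∑ i, a i) : Fin m → F) k * ν (y k)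
      rw [hG]
      have e1 : ∑ i, x i * ν ((Pi.single i0 (κ * y i0) : Fin m → F) i) = x i0 * (ν κ * ν (y i0)) := by
        rw [Finset.sum_eq_single i0]
        · rw [Pi.single_eq_same, map_mul]
        · intro j _ hj
          rw [Pi.single_eq_of_ne hj, map_zero, mul_zero]
        · intro h; exact absurd (Finset.mem_univ _) h
      have e2 : ∑ k, (-x' + Pi.single i0 (ν κ * x i0 + δ * ∑ i, a i) : Fin m → F) k * ν (y k) =
          -∑ k, x' k * ν (y k) + (ν κ * x i0 + δ * ∑ i, a i) * ν (y i0) := by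
        simp only [Pi.add_apply, Pi.neg_apply, add_mul, neg_mul, Finset.sum_add_distrib, Finset.sum_neg_distrib]
        congr 1
        rw [Finset.sum_eq_single i0]
        · rw [Pi.single_eq_same, add_mul]
        · intro j _ hj
          rw [Pi.single_eq_of_ne hj, zero_mul]
        · intro h; exact absurd (Finset.mem_univ _) h
      rw [e1, e2, ← Finset.sum_mul]
      ring)) (zer (i4 i0 κ) (f4 i0 (ν κ) δ) fun x => by
      change -(Pi.single i0 (κ * x i0) : Fin m → F) + Pi.single i0 (ν κ * x i0 + δ * ∑ _i : Fin ε, x i0) = 0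
      have e1 : δ * ∑ _i : Fin ε, x i0 = (δ * ∑ _i : Fin ε, (1 : F)) * x i0 := by
        rw [mul_assoc, Finset.sum_mul]
        simp only [one_mul]
      rw [e1, ← hκδ]
      have e2 : ν κ * x i0 + (κ - ν κ) * x i0 = κ * x i0 := by ring
      rw [e2, neg_add_cancel]) (pm m γ₂) fun h2 k l => pm_fr ν (hM h2) k l
  -- the proof
  refine ⟨![x1, x2, x3, x4], ?_, ?_, ?_⟩
  · intro i
    fin_cases i
    exacts [hd1, hd2, hd3, hd4]
  · intro i
    fin_cases i
    exacts [hx1, hx2, hx3, hx4]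
  · intro f hf hi
    have hfP : f ∈ RP K V := (hS hf).1
    have hE := hSE f hf
    have k1 := hf1 f hfP hE (hSE _ (hi 0))
    have k2 := hf2 f hfP hE (hSE _ (hi 1))
    have k3 := hf3 f hfP hE (hSE _ (hi 2))
    have k4 := hf4 f hfP hE (hSE _ (hi 3))
    obtain ⟨g, hg, hfg⟩ := Cfsg.Agent.H277.FC.stmtSN K V (Nat.succ_le_of_lt Module.finrank_pos) f hfP
    set τ : F ≃+* F := (fr K F 1).toRingEquiv with hτ
    set g' : W F m ε → W F m ε := fun w => Φ.symm (g (Φ w)) with hg'
    have hgadd : ∀ v w, g' (v + w) = g' v + g' w := by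
      intro v w
      change Φ.symm (g (Φ (v + w))) = _
      rw [map_add, hg.1, map_add]
    have key : ∀ (ι : (Fin m → F) →ₗ[F] W F m ε) (M : Matrix (Fin m) (Fin m) F) (φ : W F m ε →ₗ[F] (Fin m → F)),
        f (op 1 (Φ.toLinearMap ∘ₗ ι) M (φ ∘ₗ Φ.symm.toLinearMap)) =
          op 1 (Φ.toLinearMap ∘ₗ ι) M (φ ∘ₗ Φ.symm.toLinearMap) →
        ∀ w, g' (Zop τ ι M φ w) = Zop τ ι M φ (g' w) := by
      intro ι M φ hfix w
      have h1 : ∀ w, (op 1 (Φ.toLinearMap ∘ₗ ι) M (φ ∘ₗ Φ.symm.toLinearMap) : R K V) (Φ w) = Φ (Zop τ ι M φ w) := by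
        intro w
        change Φ (ι (M.mulVec fun k => fr K F 1 (φ (Φ.symm (Φ w)) k))) = _
        rw [Φ.symm_apply_apply]
        rfl
      change Φ.symm (g (Φ (Zop τ ι M φ w))) = _
      rw [← h1, ← hfg, hfix]
      have h2 : g (Φ w) = Φ (g' w) := (Φ.apply_symm_apply _).symm
      rw [h2, h1, Φ.symm_apply_apply]
    obtain ⟨t, ht, hgt⟩ := rigid τ hε (i0 := i0) rfl hκ hκ' hγ₂ hγ hor g' hgadd (key _ _ _ k1) (key _ _ _ k2)
      (key _ _ _ k3) (key _ _ _ k4)
    obtain ⟨k, rfl⟩ := mem_of_fix (K := K) ht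
    have hgv : ∀ v, g v = k • v := by
      intro v
      have h1 := hgt (Φ.symm v)
      change Φ.symm (g (Φ (Φ.symm v))) = _ at h1
      rw [Φ.apply_symm_apply] at h1
      have h2 := congrArg Φ h1
      rw [Φ.apply_symm_apply, map_smul, Φ.apply_symm_apply, algebraMap_smul] at h2
      exact h2
    have hk0 : k ≠ 0 := by
      rintro rfl
      obtain ⟨v, hv⟩ := exists_ne (0 : V)
      apply hv
      apply g.injective
      rw [hgv, hgv, zero_smul, zero_smul]
    apply Equiv.ext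
    intro X
    rw [Equiv.Perm.one_apply]
    ext v
    have h1 := hfg X v
    rw [hgv, hgv, map_smul] at h1
    exact smul_right_injective V hk0 h1

end

open Cfsg.Agent.H786.FC

/-- the parts of `StmtBC3` with `2 e ≤ n` -/
theorem stmtBC3_two_mul (c t : Bool) {P : ℕ → ℕ → Prop} (hP : ∀ n e, P n e → 2 * e ≤ n) : StmtBC3On.{u, v} c t P := by
  intro K _ _ V _ _ _ b hkind hbig S hS hsol E hPn ht hE hp hadj hSE
  letI : Field E := hE.toField
  haveI : Nontrivial V := by
    apply Module.nontrivial_of_finrank_pos (R := K)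
    have h1 := hP _ _ hPn
    have h2 := hp.pos
    omega
  haveI : Finite V := Module.finite_of_finite K
  haveI : Finite (R K V) := Module.finite_of_finite K
  haveI : Finite E := Subtype.finite
  refine core (F := E) b hp ?_ (hP _ _ hPn) S hS ?_
  · intro α
    obtain ⟨Y, hY, hadj⟩ := hadj α.1 α.2
    exact ⟨⟨Y, hY⟩, fun v w => hadj v w⟩
  · intro f hf a
    refine ⟨⟨f a.1, hSE f hf a.1 a.2⟩, ?_⟩
    rfl

/-- 5388 -/
theorem bc3_unitary : StmtBC3On.{u, v} true true fun n e => 2 * e ≤ n :=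
  stmtBC3_two_mul _ _ fun _ _ h => h

/-- 5390, 5391 -/
theorem bc3_symplectic (t : Bool) : StmtBC3On.{u, v} false t fun _ _ => True := by
  intro K _ _ V _ _ _ b hkind hbig S hS hsol E _ ht hE hp hadj hSE
  have hsp : b.IsSp := hkind.2 rfl
  have heven := even_finrank b hsp
  have h4 : 4 ≤ Module.finrank K V := by
    rcases hbig with h | h
    · obtain ⟨⟨⟨a, ha⟩, -⟩, -⟩ := h
      exact absurd (hsp.1 a) ha
    · exact h.2.1
  obtain ⟨s, hs⟩ := finrank_dvd E hE
  have h2 : 2 * Module.finrank K E ≤ Module.finrank K V := by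
    rcases Nat.lt_or_ge s 2 with hs2 | hs2
    · exfalso
      interval_cases s
      · omega
      · rw [mul_one] at hs
        rw [← hs] at hp
        rcases hp.even_iff.1 heven with h
        omega
    · rw [hs, mul_comm]
      exact Nat.mul_le_mul_left _ hs2
  exact stmtBC3_two_mul false t (P := fun n e => 2 * e ≤ n) (fun _ _ h => h) K V b hkind hbig S hS hsol E h2 ht hE hp
    hadj hSE

/-- `StmtBC3` from the case `n = e` -/
theorem stmtBC3 (hV : StmtBC3On.{u, v} true true fun n e => n = e) : StmtBC3.{u, v} :=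
  stmtBC3_of bc3_unitary hV (bc3_symplectic false) (bc3_symplectic true)

end Cfsg.Agent.H510.BF
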