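import Cfsg.Agent.H510.BF.Typ
import Cfsg.Agent.H466.FC.S00

/-!
# S5764, StmtBC3: the isometries `1 + z`
-/

set_option autoImplicit false

namespace Cfsg.Agent.H510.BF

open Cfsg.Agent.H198.FC

universe u v w

section

variable {K : Type u} [Field K] {F : Type w} [Field F] [Algebra K F]
  {V : Type v} [AddCommGroup V] [Module K V] [Module F V] [IsScalarTower K F V]

/-- the data: a skew `ν`-hermitian form over `F` (alternating for `ν = 1`) with `b = c Tr B` -/
structure SkData (K : Type u) [Field K] (F : Type w) [Field F] [Algebra K F] {V : Type v} [AddCommGroup V] [Module K V]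
    [Module F V] (b : Cl K V) (ν : F ≃+* F) (B : V → V → F) (c : K) : Prop where
  invol : ∀ a, ν (ν a) = a
  ext : ∀ a : K, ν (algebraMap K F a) = algebraMap K F (b.τ a)
  add_left : ∀ v v' w, B (v + v') w = B v w + B v' w
  add_right : ∀ v w w', B v (w + w') = B v w + B v w'
  smul_left : ∀ (a : F) v w, B (a • v) w = a * B v w
  smul_right : ∀ (a : F) v w, B v (a • w) = ν a * B v w
  skew : ∀ v w, B w v = -ν (B v w)
  nondeg : ∀ v, (∀ w, B v w = 0) → v = 0
  alt : (∀ a, ν a = a) → ∀ v, B v v = 0
  c_ne : c ≠ 0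
  tr : ∀ v w, b.B v w = c * Algebra.trace K F (B v w)

section fin

variable [Finite K] [Finite F]

/-- `a ↦ a ^ q`, iterated `i` times -/
noncomputable def fr (K : Type u) [Field K] [Finite K] (F : Type w) [Field F] [Algebra K F] [Finite F] (i : ℕ) :
    F ≃ₐ[K] F :=
  haveI := Fintype.ofFinite K
  FiniteField.frobeniusAlgEquivOfAlgebraic K F ^ i

theorem fr_apply (i : ℕ) (a : F) : fr K F i a = a ^ (Nat.card K ^ i) := by
  letI := Fintype.ofFinite K
  change (FiniteField.frobeniusAlgEquivOfAlgebraic K F ^ i) a = _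
  rw [AlgEquiv.coe_pow, FiniteField.coe_frobeniusAlgEquivOfAlgebraic, pow_iterate, Nat.card_eq_fintype_card]

theorem fr_ring (ν : F ≃+* F) (i : ℕ) (a : F) : ν (fr K F i a) = fr K F i (ν a) := by
  rw [fr_apply, fr_apply, map_pow]

theorem fr_fr {i j : ℕ} (h : (i + j) % Module.finrank K F = 0) (a : F) : fr K F i (fr K F j a) = a := by
  rw [fr_apply, fr_apply, ← pow_mul, ← pow_add, add_comm j i, ← pow_card (K := K) (F := F), h, pow_zero, pow_one]

/-- the operator `ι ∘ M ∘ τ^i ∘ φ` -/
noncomputable def op {m : ℕ} (i : ℕ) (ι : (Fin m → F) →ₗ[F] V) (M : Matrix (Fin m) (Fin m) F)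
    (φ : V →ₗ[F] (Fin m → F)) : R K V where
  toFun v := ι (M.mulVec fun k => fr K F i (φ v k))
  map_add' v w := by
    rw [← map_add, ← Matrix.mulVec_add]
    congr 2
    funext k
    rw [map_add, Pi.add_apply, Pi.add_apply, map_add]
  map_smul' a v := by
    have h1 : (fun k => fr K F i (φ (a • v) k)) = (algebraMap K F a) • fun k => fr K F i (φ v k) := by
      funext k
      have h2 : φ (a • v) k = algebraMap K F a * φ v k := by
        rw [← algebraMap_smul F a v, map_smul, Pi.smul_apply, smul_eq_mul]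
      rw [h2, map_mul, AlgEquiv.commutes, Pi.smul_apply, smul_eq_mul]
    rw [h1, Matrix.mulVec_smul, map_smul, algebraMap_smul, RingHom.id_apply]

theorem op_apply {m : ℕ} (i : ℕ) (ι : (Fin m → F) →ₗ[F] V) (M : Matrix (Fin m) (Fin m) F)
    (φ : V →ₗ[F] (Fin m → F)) (v : V) : (op i ι M φ : R K V) v = ι (M.mulVec fun k => fr K F i (φ v k)) := rfl

theorem op_ty {m : ℕ} (i : ℕ) (ι : (Fin m → F) →ₗ[F] V) (M : Matrix (Fin m) (Fin m) F)
    (φ : V →ₗ[F] (Fin m → F)) : Ty F i (op i ι M φ : R K V) := by
  intro a v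
  rw [op_apply, op_apply, ← map_smul, ← Matrix.mulVec_smul]
  congr 2
  funext k
  rw [map_smul, Pi.smul_apply, Pi.smul_apply, smul_eq_mul, smul_eq_mul, map_mul, fr_apply i a]

theorem op_mul {m : ℕ} (i j : ℕ) (ι : (Fin m → F) →ₗ[F] V) (M M' : Matrix (Fin m) (Fin m) F)
    (φ : V →ₗ[F] (Fin m → F)) (h : ∀ x, φ (ι x) = 0) : (op i ι M φ * op j ι M' φ : R K V) = 0 := by
  ext v
  rw [Module.End.mul_apply, op_apply, op_apply, h]
  have h1 : (fun k => fr K F i ((0 : Fin m → F) k)) = 0 := by
    funext k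
    rw [Pi.zero_apply, map_zero]
  rw [h1, Matrix.mulVec_zero, map_zero, LinearMap.zero_apply]

variable {b : Cl K V} {ν : F ≃+* F} {B : V → V → F} {c : K}

omit [IsScalarTower K F V] [Finite K] in
theorem SkData.sum_left (hB : SkData K F b ν B c) {m : ℕ} {ι : (Fin m → F) →ₗ[F] V} {φ : V →ₗ[F] (Fin m → F)}
    (h : ∀ v x, B v (ι x) = ∑ k, φ v k * ν (x k)) (w : V) (x : Fin m → F) :
    B (ι x) w = -∑ k, ν (φ w k) * x k := by
  rw [hB.skew, h, map_sum]
  congr 1
  refine Finset.sum_congr rfl fun k _ => ?_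
  rw [map_mul, hB.invol]

theorem trace_fr (i : ℕ) (a : F) : Algebra.trace K F (fr K F i a) = Algebra.trace K F a :=
  Algebra.trace_eq_of_algEquiv (fr K F i) a

theorem skew_op (hB : SkData K F b ν B c) {m : ℕ} {ι : (Fin m → F) →ₗ[F] V} {φ : V →ₗ[F] (Fin m → F)}
    (h : ∀ v x, B v (ι x) = ∑ k, φ v k * ν (x k)) {i j : ℕ} (hij : (i + j) % Module.finrank K F = 0)
    (M M' : Matrix (Fin m) (Fin m) F) (hM : ∀ k l, M l k = fr K F i (ν (M' k l))) (v w : V) :
    b.B ((op i ι M φ : R K V) v) w = -b.B v ((op j ι M' φ : R K V) w) := by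
  rw [hB.tr, hB.tr, op_apply, op_apply, hB.sum_left h, h, ← mul_neg, ← map_neg (Algebra.trace K F),
    ← trace_fr (K := K) i (-∑ k, φ v k * ν ((M'.mulVec fun k => fr K F j (φ w k)) k))]
  congr 2
  rw [map_neg, map_sum, neg_inj]
  have h1 : ∀ k, (M.mulVec fun k => fr K F i (φ v k)) k = ∑ l, M k l * fr K F i (φ v l) := fun k => rfl
  have h2 : ∀ k, (M'.mulVec fun k => fr K F j (φ w k)) k = ∑ l, M' k l * fr K F j (φ w l) := fun k => rfl
  simp_rw [h1, h2, map_sum, map_mul, map_sum, map_mul, Finset.mul_sum]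
  rw [Finset.sum_comm]
  refine Finset.sum_congr rfl fun k _ => Finset.sum_congr rfl fun l _ => ?_
  rw [hM, fr_ring, fr_fr hij]
  ring

/-- `1 + z` is an isometry -/
theorem isom_one_add {z : R K V} (hz : z * z = 0) (hs : ∀ v w, b.B (z v) w = -b.B v (z w)) (v w : V) :
    b.B ((1 + z) v) ((1 + z) w) = b.B v w := by
  have h1 : z (z w) = 0 := by
    rw [← Module.End.mul_apply, hz, LinearMap.zero_apply]
  have h0 : ∀ v, b.B v 0 = 0 := by
    intro v
    have h := b.add_right v 0 0
    rw [add_zero] at h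
    exact left_eq_add.1 h
  rw [LinearMap.add_apply, LinearMap.add_apply, Module.End.one_apply, Module.End.one_apply, b.add_left, b.add_right,
    b.add_right, hs v w, hs v (z w), h1, h0]
  ring

/-- **the element attached to `ι, M, φ`** -/
theorem exists_elt [Module.Finite K V] [Nontrivial V] (hB : SkData K F b ν B c)
    (he : (Module.finrank K F).Prime) {m : ℕ} {ι : (Fin m → F) →ₗ[F] V} {φ : V →ₗ[F] (Fin m → F)}
    (h : ∀ v x, B v (ι x) = ∑ k, φ v k * ν (x k)) (hφι : ∀ x, φ (ι x) = 0)
    (M : Matrix (Fin m) (Fin m) F)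
    (hM : Module.finrank K F = 2 → ∀ k l, M l k = fr K F 1 (ν (M k l))) :
    ∃ x : (R K V)ˣ, LinearMap.det (x : R K V) = 1 ∧ b.Isom x ∧
      ∀ f ∈ RP K V, (∀ a : F, ∃ a' : F, f (mu K V a) = mu K V a') →
        (∀ a : F, ∃ a' : F, (cj K V x * f * (cj K V x)⁻¹) (mu K V a) = mu K V a') →
        f (op 1 ι M φ) = op 1 ι M φ := by
  obtain ⟨p, hp⟩ := CharP.exists K
  haveI : Fact p.Prime := ⟨CharP.char_is_prime K p⟩
  set e := Module.finrank K F with hedef
  haveI : NeZero e := ⟨he.ne_zero⟩
  haveI : Fact (1 < e) := ⟨he.one_lt⟩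
  have hsing : ∀ z : R K V, z * z = 0 → ¬ IsUnit z := by
    intro z hz hu
    obtain ⟨y, hy⟩ := hu
    have h1 : (y * y : (R K V)ˣ) = (0 : R K V) := by rw [Units.val_mul, hy]; exact hz
    exact (y * y).ne_zero h1
  by_cases h2 : e = 2
  · -- `e = 2`
    set z : R K V := op 1 ι M φ with hz
    have hzz : z * z = 0 := op_mul 1 1 ι M M φ hφι
    have hskew : ∀ v w, b.B (z v) w = -b.B v (z w) := by
      intro v w
      exact skew_op hB h (i := 1) (j := 1) (by rw [← hedef, h2]) M M (hM h2) v w
    obtain ⟨x, hx, hdet, -⟩ := Cfsg.Agent.H466.FC.exists_uni (p := p) (N := z) ⟨2, by rw [pow_two, hzz]⟩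
    refine ⟨x, hdet, fun v w => ?_, fun f hf hE hE' => ?_⟩
    · rw [hx]
      exact isom_one_add hzz hskew v w
    · have h01 : (0 : ZMod e) ≠ 1 := zero_ne_one
      have hall : ∀ i : ZMod e, i = 0 ∨ i = 1 := by
        intro i
        have hi := ZMod.val_lt i
        have hi' : i = (i.val : ZMod e) := (ZMod.natCast_zmod_val i).symm
        have : i.val = 0 ∨ i.val = 1 := by omega
        rcases this with h0 | h0
        · left; rw [hi', h0, Nat.cast_zero]
        · right; rw [hi', h0, Nat.cast_one]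
      have key := fix_of_types hedef.symm hf hE x hE' (fun i => if i = 0 then 1 else z) (fun i => by
        rcases hall i with rfl | rfl
        · rw [if_pos rfl, ZMod.val_zero]; exact ty_one
        · rw [if_neg h01.symm, ZMod.val_one]; exact op_ty 1 ι M φ) (if_pos rfl) (fun i hi => by
        rw [if_neg hi]; exact hsing z hzz) (by
        rw [hx]
        have hsum : ∑ i : ZMod e, (if i = 0 then (1 : R K V) else z) =
            ∑ i ∈ ({0, 1} : Finset (ZMod e)), (if i = 0 then (1 : R K V) else z) := by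
          refine (Finset.sum_subset (Finset.subset_univ _) fun i _ hi => ?_).symm
          exfalso
          apply hi
          rcases hall i with rfl | rfl <;> simp
        rw [hsum, Finset.sum_pair h01, if_pos rfl, if_neg h01.symm]) 1
      simpa only [if_neg h01.symm] using key
  · -- `e` odd
    have he3 : 2 < e := by
      have := he.two_le
      omega
    set M' : Matrix (Fin m) (Fin m) F := fun k l => ν (fr K F (e - 1) (M l k)) with hM'
    set z : R K V := op 1 ι M φ with hz
    set z' : R K V := op (e - 1) ι M' φ with hz'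
    have hzz : z * z = 0 := op_mul 1 1 ι M M φ hφι
    have hz'z' : z' * z' = 0 := op_mul _ _ ι M' M' φ hφι
    have hzz' : z * z' = 0 := op_mul _ _ ι M M' φ hφι
    have hz'z : z' * z = 0 := op_mul _ _ ι M' M φ hφι
    have hij : (1 + (e - 1)) % Module.finrank K F = 0 := by
      rw [← hedef, Nat.add_sub_cancel' he.one_le, Nat.mod_self]
    have hji : (e - 1 + 1) % Module.finrank K F = 0 := by
      rw [add_comm]; exact hij
    have hMM : ∀ k l, M l k = fr K F 1 (ν (M' k l)) := by
      intro k l
      rw [hM']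
      simp only
      rw [hB.invol, fr_fr hij]
    have hMM' : ∀ k l, M' l k = fr K F (e - 1) (ν (M k l)) := by
      intro k l
      rw [hM']
      simp only
      rw [fr_ring]
    have hs1 : ∀ v w, b.B (z v) w = -b.B v (z' w) := fun v w => skew_op hB h hij M M' hMM v w
    have hs2 : ∀ v w, b.B (z' v) w = -b.B v (z w) := fun v w => skew_op hB h hji M' M hMM' v w
    have hzt : (z + z') * (z + z') = 0 := by
      rw [mul_add, add_mul, add_mul, hzz, hz'z, hzz', hz'z', add_zero, add_zero]
    have hskew : ∀ v w, b.B ((z + z') v) w = -b.B v ((z + z') w) := by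
      intro v w
      rw [LinearMap.add_apply, LinearMap.add_apply, b.add_left, b.add_right, hs1, hs2]
      ring
    obtain ⟨x, hx, hdet, -⟩ := Cfsg.Agent.H466.FC.exists_uni (p := p) (N := z + z') ⟨2, by rw [pow_two, hzt]⟩
    refine ⟨x, hdet, fun v w => ?_, fun f hf hE hE' => ?_⟩
    · rw [hx]
      exact isom_one_add hzt hskew v w
    · have h01 : (0 : ZMod e) ≠ 1 := zero_ne_one
      have h0n : (0 : ZMod e) ≠ -1 := by
        intro h0
        exact h01 (by rw [← neg_neg (1 : ZMod e), ← h0, neg_zero])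
      have hneg : (-1 : ZMod e).val = e - 1 := by
        rw [ZMod.neg_val, if_neg h01.symm, ZMod.val_one]
      have h1n : (1 : ZMod e) ≠ -1 := by
        intro h0
        have h3 := congrArg ZMod.val h0
        rw [hneg, ZMod.val_one] at h3
        omega
      have key := fix_of_types hedef.symm hf hE x hE'
        (fun i => if i = 0 then 1 else if i = 1 then z else if i = -1 then z' else 0) (fun i => by
        split_ifs with h3 h4 h5
        · rw [h3, ZMod.val_zero]; exact ty_one
        · rw [h4, ZMod.val_one]; exact op_ty 1 ι M φ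
        · rw [h5, hneg]; exact op_ty _ ι M' φ
        · exact ty_zero _) (if_pos rfl) (fun i hi => by
        rw [if_neg hi]
        split_ifs
        · exact hsing z hzz
        · exact hsing z' hz'z'
        · exact hsing 0 (mul_zero _)) (by
        rw [hx]
        have hsum : ∑ i : ZMod e, (if i = 0 then (1 : R K V) else if i = 1 then z else if i = -1 then z' else 0) =
            ∑ i ∈ ({0, 1, -1} : Finset (ZMod e)),
              (if i = 0 then (1 : R K V) else if i = 1 then z else if i = -1 then z' else 0) := by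
          refine (Finset.sum_subset (Finset.subset_univ _) fun i _ hi => ?_).symm
          simp only [Finset.mem_insert, Finset.mem_singleton, not_or] at hi
          rw [if_neg hi.1, if_neg hi.2.1, if_neg hi.2.2]
        rw [hsum, Finset.sum_insert (by simp [h01, h0n]), Finset.sum_pair h1n, if_pos rfl, if_neg h01.symm,
          if_pos rfl, if_neg h0n.symm, if_neg h1n.symm, if_pos rfl]) 1
      simpa only [if_neg h01.symm, if_true] using key

end fin

end

end Cfsg.Agent.H510.BF
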