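import Cfsg.Agent.H198.FC.DefsB

/-!
# S5764, StmtBC3: semilinear types

`F` a finite extension field of `K` of degree `e` acting on `V`; `q = |K|`; a `K`-linear map `X` has type `i` if
`X (a v) = a^(q^i) X v` for `a ∈ F`.
-/

set_option autoImplicit false

namespace Cfsg.Agent.H510.BF

open Cfsg.Agent.H198.FC

universe u v w

section

variable {K : Type u} [Field K] {F : Type w} [Field F] [Algebra K F]
  {V : Type v} [AddCommGroup V] [Module K V] [Module F V] [IsScalarTower K F V]

variable (K V) in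
/-- multiplication by `a ∈ F` as an element of `R` -/
def mu : F →ₐ[K] R K V := Algebra.lsmul K K V

@[simp] theorem mu_apply (a : F) (v : V) : mu K V a v = a • v := rfl

theorem mu_inj [Nontrivial V] {a b : F} (h : mu K V a = mu K V b) : a = b :=
  (mu K V : F →ₐ[K] R K V).toRingHom.injective h

variable (F) in
/-- `X` has type `i` -/
def Ty (i : ℕ) (X : R K V) : Prop := ∀ (a : F) (v : V), X (a • v) = a ^ (Nat.card K ^ i) • X v

theorem Ty.add {i : ℕ} {X Y : R K V} (hX : Ty F i X) (hY : Ty F i Y) : Ty F i (X + Y) := by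
  intro a v
  rw [LinearMap.add_apply, LinearMap.add_apply, hX, hY, smul_add]

theorem Ty.sub {i : ℕ} {X Y : R K V} (hX : Ty F i X) (hY : Ty F i Y) : Ty F i (X - Y) := by
  intro a v
  rw [LinearMap.sub_apply, LinearMap.sub_apply, hX, hY, smul_sub]

theorem ty_zero (i : ℕ) : Ty F i (0 : R K V) := by
  intro a v
  rw [LinearMap.zero_apply, LinearMap.zero_apply, smul_zero]

theorem ty_one : Ty F 0 (1 : R K V) := by
  intro a v
  rw [pow_zero, pow_one, Module.End.one_apply, Module.End.one_apply]

theorem Ty.mul {i j : ℕ} {X Y : R K V} (hX : Ty F i X) (hY : Ty F j Y) : Ty F (i + j) (X * Y) := by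
  intro a v
  rw [Module.End.mul_apply, Module.End.mul_apply, hY, hX, ← pow_mul, ← pow_add, add_comm]

theorem ty_iff {i : ℕ} {X : R K V} : Ty F i X ↔ ∀ a : F, X * mu K V a = mu K V a ^ (Nat.card K ^ i) * X := by
  constructor
  · intro h a
    ext v
    rw [← map_pow]
    exact h a v
  · intro h a v
    have h1 := LinearMap.congr_fun (h a) v
    rw [← map_pow] at h1
    exact h1

section fin

variable [Finite K] [Finite F]

theorem pow_card (a : F) (n : ℕ) : a ^ (Nat.card K ^ (n % Module.finrank K F)) = a ^ (Nat.card K ^ n) := by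
  classical
  letI := Fintype.ofFinite K
  letI := Fintype.ofFinite F
  set e := Module.finrank K F with he
  have hc : Nat.card K ^ e = Fintype.card F := by
    rw [Nat.card_eq_fintype_card, Module.card_eq_pow_finrank (K := K) (V := F)]
  have h1 : ∀ k : ℕ, ∀ b : F, b ^ ((Nat.card K ^ e) ^ k) = b := by
    intro k
    induction k with
    | zero => intro b; rw [pow_zero, pow_one]
    | succ k ih =>
      intro b
      rw [pow_succ, pow_mul, ih, hc, FiniteField.pow_card]
  conv_rhs => rw [← Nat.mod_add_div n e, pow_add, pow_mul _ e, mul_comm, pow_mul, h1]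

theorem ty_mod {n : ℕ} {X : R K V} (h : Ty F n X) : Ty F (n % Module.finrank K F) X := by
  intro a v
  rw [pow_card, h]

/-- independence of the types -/
theorem ty_indep {e : ℕ} [NeZero e] (he : Module.finrank K F = e) (X : ZMod e → R K V) (hX : ∀ i, Ty F i.val (X i))
    (h0 : ∑ i, X i = 0) (i : ZMod e) : X i = 0 := by
  classical
  letI := Fintype.ofFinite K
  letI := Fintype.ofFinite F
  have hcK : Nat.card K = Fintype.card K := Nat.card_eq_fintype_card
  have hinj : Function.Injective (fun i : ZMod e => (powMonoidHom (Nat.card K ^ i.val) : F →* F)) := by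
    intro i j hij
    have h1 := (FiniteField.bijective_frobeniusAlgHom_pow K F).1
      (a₁ := ⟨i.val, by rw [he]; exact ZMod.val_lt i⟩) (a₂ := ⟨j.val, by rw [he]; exact ZMod.val_lt j⟩) (by
        apply AlgHom.ext
        intro a
        have h2 : ∀ n : ℕ, (FiniteField.frobeniusAlgHom K F ^ n) a = a ^ (Nat.card K ^ n) := by
          intro n
          rw [AlgHom.coe_pow, FiniteField.coe_frobeniusAlgHom, pow_iterate, hcK]
        change (FiniteField.frobeniusAlgHom K F ^ i.val) a = (FiniteField.frobeniusAlgHom K F ^ j.val) a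
        rw [h2, h2]
        exact DFunLike.congr_fun hij a)
    exact ZMod.val_injective e (congrArg Fin.val h1)
  have hli := (linearIndependent_monoidHom F F).comp _ hinj
  rw [Fintype.linearIndependent_iff] at hli
  ext v
  rw [LinearMap.zero_apply]
  by_contra hne
  obtain ⟨φ, hφ⟩ : ∃ φ : V →ₗ[F] F, φ (X i v) ≠ 0 := by
    by_contra hcon
    push Not at hcon
    exact hne ((Module.forall_dual_apply_eq_zero_iff F _).1 hcon)
  refine hφ (hli (fun j => φ (X j v)) ?_ i)
  funext a
  rw [Finset.sum_apply]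
  have h1 : (∑ j, X j) (a • v) = 0 := by rw [h0, LinearMap.zero_apply]
  rw [LinearMap.sum_apply] at h1
  have h2 := congrArg φ h1
  rw [map_sum, map_zero] at h2
  rw [Pi.zero_apply, ← h2]
  refine Finset.sum_congr rfl fun j _ => ?_
  rw [hX j a v, map_smul, Pi.smul_apply, smul_eq_mul, smul_eq_mul, mul_comm]
  rfl

/-- an automorphism of `R` that normalizes `F` preserves the types -/
theorem ty_map [Nontrivial V] {f : Equiv.Perm (R K V)} (hf : f ∈ RP K V)
    (hE : ∀ a : F, ∃ a' : F, f (mu K V a) = mu K V a') {i : ℕ} {X : R K V} (hX : Ty F i X) : Ty F i (f X) := by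
  choose φ hφ using hE
  have hinj : Function.Injective φ := by
    intro a b hab
    apply mu_inj (K := K) (V := V)
    apply f.injective
    rw [hφ, hφ, hab]
  have hsurj := Finite.surjective_of_injective hinj
  have h1 : f 1 = 1 := by
    have h1 := hf.2 1 (f.symm 1)
    rw [one_mul, Equiv.apply_symm_apply, mul_one] at h1
    exact h1.symm
  have hpow : ∀ (Y : R K V) (n : ℕ), f (Y ^ n) = f Y ^ n := by
    intro Y n
    induction n with
    | zero => rw [pow_zero, pow_zero, h1]
    | succ n ih => rw [pow_succ, pow_succ, hf.2, ih]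
  rw [ty_iff] at hX ⊢
  intro a
  obtain ⟨b, rfl⟩ := hsurj a
  rw [← hφ, ← hf.2, hX, hf.2, hpow]

/-- an invertible element of `R` that normalizes `F` has a type -/
theorem exists_ty [Nontrivial V] (m : (R K V)ˣ) (hm : ∀ a : F, ∃ a' : F, cj K V m (mu K V a) = mu K V a') :
    ∃ j < Module.finrank K F, Ty F j (m : R K V) := by
  classical
  letI := Fintype.ofFinite K
  letI := Fintype.ofFinite F
  have hcK : Nat.card K = Fintype.card K := Nat.card_eq_fintype_card
  choose φ hφ using hm
  have hcj := cj_mem_RP m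
  have h1 : cj K V m 1 = 1 := by
    rw [cj_apply, mul_one, Units.mul_inv]
  let Φ : F →ₐ[K] F :=
    { toFun := φ
      map_one' := mu_inj (K := K) (V := V) (by rw [← hφ, map_one, h1])
      map_mul' := fun a b => mu_inj (K := K) (V := V) (by
        rw [← hφ, map_mul, hcj.2, hφ, hφ, map_mul])
      map_zero' := mu_inj (K := K) (V := V) (by
        rw [← hφ, map_zero, cj_apply, mul_zero, zero_mul])
      map_add' := fun a b => mu_inj (K := K) (V := V) (by
        rw [← hφ, map_add, hcj.1, hφ, hφ, map_add])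
      commutes' := fun a => mu_inj (K := K) (V := V) (by
        rw [← hφ, AlgHom.commutes, cj_apply, ← Algebra.commutes, mul_assoc, Units.mul_inv, mul_one]) }
  obtain ⟨j, hj⟩ := (FiniteField.bijective_frobeniusAlgHom_pow K F).2 Φ
  refine ⟨j.1, j.2, ?_⟩
  rw [ty_iff]
  intro a
  have h2 : φ a = a ^ (Nat.card K ^ j.1) := by
    have h3 := DFunLike.congr_fun hj a
    change (FiniteField.frobeniusAlgHom K F ^ j.1) a = φ a at h3
    rw [← h3, AlgHom.coe_pow, FiniteField.coe_frobeniusAlgHom, pow_iterate, hcK]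
  rw [← map_pow, ← h2, ← hφ, cj_apply, mul_assoc, Units.inv_mul, mul_one]

/-- **Lemma T**: if `x = ∑ Xᵢ` with `X₀ = 1` and `Xᵢ` singular of type `i` for `i ≠ 0`, then `f` and `f^x` both
normalize `F` only if `f` fixes all `Xᵢ`. -/
theorem fix_of_types [Nontrivial V] {e : ℕ} [NeZero e] (he : Module.finrank K F = e) {f : Equiv.Perm (R K V)}
    (hf : f ∈ RP K V) (hE : ∀ a : F, ∃ a' : F, f (mu K V a) = mu K V a') (x : (R K V)ˣ)
    (hE' : ∀ a : F, ∃ a' : F, (cj K V x * f * (cj K V x)⁻¹) (mu K V a) = mu K V a')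
    (X : ZMod e → R K V) (hX : ∀ i, Ty F i.val (X i)) (hX0 : X 0 = 1) (hXu : ∀ i, i ≠ 0 → ¬ IsUnit (X i))
    (hx : (x : R K V) = ∑ i, X i) (i : ZMod e) : f (X i) = X i := by
  classical
  have h1 : f 1 = 1 := by
    have h1 := hf.2 1 (f.symm 1)
    rw [one_mul, Equiv.apply_symm_apply, mul_one] at h1
    exact h1.symm
  -- the unit `f x`
  let y : (R K V)ˣ := ⟨f x, f (x⁻¹ : (R K V)ˣ), by rw [← hf.2, Units.mul_inv, h1], by rw [← hf.2, Units.inv_mul, h1]⟩
  have hy : (y : R K V) = f x := rfl
  set m : (R K V)ˣ := x * y⁻¹ with hm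
  have hxm : (x : R K V) = m * f x := by
    rw [hm, Units.val_mul, mul_assoc, ← hy, Units.inv_mul, mul_one]
  -- `m` normalizes `F`
  have key : ∀ Z, (cj K V x * f * (cj K V x)⁻¹) Z = cj K V m (f Z) := by
    intro Z
    have h2 : (cj K V x)⁻¹ Z = (x⁻¹ : (R K V)ˣ) * Z * x := by
      rw [← map_inv, cj_apply, inv_inv]
    rw [Equiv.Perm.mul_apply, Equiv.Perm.mul_apply, h2, cj_apply, cj_apply, hf.2, hf.2, hm]
    change (x : R K V) * ((y⁻¹ : (R K V)ˣ) * f Z * y) * (x⁻¹ : (R K V)ˣ) = _
    rw [mul_inv_rev, inv_inv, Units.val_mul, Units.val_mul]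
    simp only [mul_assoc]
  have hmF : ∀ a : F, ∃ a' : F, cj K V m (mu K V a) = mu K V a' := by
    choose φ hφ using hE
    have hinj : Function.Injective φ := by
      intro a b hab
      apply mu_inj (K := K) (V := V)
      apply f.injective
      rw [hφ, hφ, hab]
    have hsurj := Finite.surjective_of_injective hinj
    intro a
    obtain ⟨b, rfl⟩ := hsurj a
    obtain ⟨c, hc⟩ := hE' b
    refine ⟨c, ?_⟩
    rw [← hc, key, hφ]
  obtain ⟨j, hj, hjm⟩ := exists_ty m hmF
  have hjv : ((j : ℕ) : ZMod e).val = j := ZMod.val_natCast_of_lt (by rw [← he]; exact hj)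
  -- compare the types in `x = m * f x`
  have hfsum : f (∑ i, X i) = ∑ i, f (X i) := by
    let f' : R K V →+ R K V := AddMonoidHom.mk' f hf.1
    exact map_sum f' X Finset.univ
  have hYX : ∀ k, X k - m * f (X (k - (j : ZMod e))) = 0 := by
    apply ty_indep he (F := F)
    · intro k
      refine (hX k).sub ?_
      have h2 := hjm.mul (ty_map hf hE (hX (k - (j : ZMod e))))
      have h3 := ty_mod h2
      rw [he] at h3
      have h4 : (j + (k - (j : ZMod e)).val) % e = k.val := by
        have h5 := ZMod.val_add (j : ZMod e) (k - (j : ZMod e))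
        rw [hjv, add_sub_cancel] at h5
        exact h5.symm
      rwa [h4] at h3
    · rw [Finset.sum_sub_distrib]
      have h2 : ∑ k : ZMod e, (m : R K V) * f (X (k - (j : ZMod e))) = ∑ k, (m : R K V) * f (X k) :=
        (Equiv.subRight (j : ZMod e)).sum_comp fun k => (m : R K V) * f (X k)
      rw [h2, ← Finset.mul_sum, ← hfsum, ← hx, ← hxm, sub_self]
  have hj0 : (j : ZMod e) = 0 := by
    by_contra hne
    apply hXu _ hne
    have h2 := sub_eq_zero.1 (hYX (j : ZMod e))
    rw [sub_self, hX0, h1, mul_one] at h2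
    rw [h2]
    exact m.isUnit
  have hm1 : (m : R K V) = 1 := by
    have h2 := sub_eq_zero.1 (hYX 0)
    rw [hj0, sub_zero, hX0, h1, mul_one] at h2
    exact h2.symm
  have h2 := sub_eq_zero.1 (hYX i)
  rw [hj0, sub_zero, hm1, one_mul] at h2
  exact h2.symm

end fin

end

end Cfsg.Agent.H510.BF
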